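import Mathlib
import Groth.Agent.NormSeq.Step
import Groth.Agent.S2266
import Groth.Agent.MeroX.DivDim
import Groth.Prelude.Def_ResolveSeq

/-!
# Point blow-ups resolving the image of a finite morphism from a regular curve
-/

set_option autoImplicit false
set_option linter.style.haveILetI false
set_option linter.unusedSectionVars false
set_option backward.isDefEq.respectTransparency false
set_option backward.isDefEq.respectTransparency.types false
set_option maxHeartbeats 800000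

universe u

open CategoryTheory CategoryTheory.Limits AlgebraicGeometry TopologicalSpace IsLocalRing
open Groth.Agent.H23.StalkIdeal
open Groth.Agent.PointBlow (pt)

noncomputable section

namespace Groth.Agent.CurveRes

variable {N Y Y₁ X : Scheme.{u}}

theorem appLE_injective {A B : Scheme.{u}} (t : A ⟶ B) {U : B.Opens} {V : A.Opens} (e : V ≤ t ⁻¹ᵁ U)
    (he : V = t ⁻¹ᵁ U) (h : Function.Injective (t.app U)) : Function.Injective (t.appLE U V e) := by
  subst he
  rwa [← Scheme.Hom.app_eq_appLE]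

/-- A morphism with trivial kernel is injective on the sections over affine opens. -/
theorem app_injective {A B : Scheme.{u}} (t : A ⟶ B) [QuasiCompact t] (ht : t.ker = ⊥) {U : B.Opens}
    (hU : IsAffineOpen U) : Function.Injective (t.app U) := by
  have h := t.ker_apply ⟨U, hU⟩
  rw [ht, Scheme.IdealSheafData.ideal_bot, Pi.bot_apply] at h
  exact (RingHom.injective_iff_ker_eq_bot _).2 h.symm

/-- A quasi-compact dominant morphism to a reduced scheme has trivial kernel. -/
theorem ker_eq_bot {A B : Scheme.{u}} (t : A ⟶ B) [QuasiCompact t] [IsDominant t] [IsReduced B] : t.ker = ⊥ := by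
  have h : t.ker.support = ⊤ := by
    apply TopologicalSpace.Closeds.ext
    rw [Scheme.Hom.support_ker, t.denseRange.closure_range]
    rfl
  exact le_bot_iff.1 ((Scheme.IdealSheafData.le_radical t.ker).trans (le_of_eq (by
    rw [← Scheme.IdealSheafData.vanishingIdeal_support, h, Scheme.IdealSheafData.vanishingIdeal_top, Scheme.nilradical_eq_bot])))

section Sec

variable (f₀ : N ⟶ X) (W : X.Opens)

/-- The sections over the preimage of an open set. -/
def Sec : Type u := Γ(N, f₀ ⁻¹ᵁ W)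

instance : CommRing (Sec f₀ W) := inferInstanceAs (CommRing Γ(N, f₀ ⁻¹ᵁ W))

instance : Algebra Γ(X, W) (Sec f₀ W) := ((f₀.app W).hom : Γ(X, W) →+* Sec f₀ W).toAlgebra

variable (t : N ⟶ Y) (q : Y ⟶ X) (h : t ≫ q = f₀)

/-- The sections of an intermediate scheme inside those of the source. -/
def secs : Submodule Γ(X, W) (Sec f₀ W) where
  carrier := Set.range (t.appLE (q ⁻¹ᵁ W) (f₀ ⁻¹ᵁ W) (by rw [← h]; exact le_rfl))
  zero_mem' := ⟨0, map_zero _⟩
  add_mem' := by
    rintro _ _ ⟨a, rfl⟩ ⟨b, rfl⟩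
    exact ⟨a + b, map_add _ _ _⟩
  smul_mem' := by
    rintro r _ ⟨a, rfl⟩
    refine ⟨q.app W r * a, ?_⟩
    rw [map_mul]
    show _ = f₀.app W r * _
    congr 1
    subst h
    rw [Scheme.Hom.app_eq_appLE (t ≫ q), Scheme.Hom.comp_appLE]
    rfl

theorem secs_le (t₁ : N ⟶ Y₁) (k : Y₁ ⟶ Y) (q₁ : Y₁ ⟶ X) (h₁ : t₁ ≫ q₁ = f₀) (ht : t₁ ≫ k = t)
    (hq : k ≫ q = q₁) : secs f₀ W t q h ≤ secs f₀ W t₁ q₁ h₁ := by
  subst ht hq
  rintro _ ⟨a, rfl⟩
  refine ⟨k.app (q ⁻¹ᵁ W) a, ?_⟩
  rw [Scheme.Hom.comp_appLE]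
  rfl

theorem bijective_app_of_secs_eq (t₁ : N ⟶ Y₁) (k : Y₁ ⟶ Y) (q₁ : Y₁ ⟶ X) (h₁ : t₁ ≫ q₁ = f₀)
    (ht : t₁ ≫ k = t) (hq : k ≫ q = q₁) (hW : IsAffineOpen W) [IsAffineHom q] [IsAffineHom q₁]
    [QuasiCompact t] [QuasiCompact t₁] (hk : t.ker = ⊥) (hk₁ : t₁.ker = ⊥)
    (heq : secs f₀ W t q h = secs f₀ W t₁ q₁ h₁) : Function.Bijective (k.app (q ⁻¹ᵁ W)) := by
  subst ht hq
  have e : f₀ ⁻¹ᵁ W = t₁ ⁻¹ᵁ ((k ≫ q) ⁻¹ᵁ W) := by rw [← h₁]; rfl
  have hi₁ := appLE_injective t₁ (U := (k ≫ q) ⁻¹ᵁ W) (V := f₀ ⁻¹ᵁ W) e.le e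
    (app_injective t₁ hk₁ (hW.preimage (k ≫ q)))
  have hc : ∀ a, t₁.appLE ((k ≫ q) ⁻¹ᵁ W) (f₀ ⁻¹ᵁ W) e.le (k.app (q ⁻¹ᵁ W) a) =
      (t₁ ≫ k).appLE (q ⁻¹ᵁ W) (f₀ ⁻¹ᵁ W) e.le a := fun a => by
    rw [Scheme.Hom.comp_appLE]; rfl
  have hi := appLE_injective (t₁ ≫ k) (U := q ⁻¹ᵁ W) (V := f₀ ⁻¹ᵁ W) e.le e
    (app_injective (t₁ ≫ k) hk (hW.preimage q))
  refine ⟨fun a b hab => hi (by rw [← hc, ← hc, hab]), fun b => ?_⟩
  have hb : t₁.appLE ((k ≫ q) ⁻¹ᵁ W) (f₀ ⁻¹ᵁ W) e.le b ∈ secs f₀ W t₁ (k ≫ q) h₁ := ⟨b, rfl⟩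
  rw [← heq] at hb
  obtain ⟨a, ha⟩ := hb
  exact ⟨a, hi₁ ((hc a).trans ha)⟩

end Sec

/-- An affine morphism bijective on the sections over an affine cover is an isomorphism. -/
theorem isIso_of_bijective {A B : Scheme.{u}} (k : A ⟶ B) [IsAffineHom k] {ι : Type u} (U : ι → B.affineOpens)
    (hU : ⨆ i, (U i : B.Opens) = ⊤) (h : ∀ i, Function.Bijective (k.app (U i).1)) : IsIso k := by
  refine (HasAffineProperty.iff_of_iSup_eq_top (P := MorphismProperty.isomorphisms Scheme) U hU).mpr fun i =>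
    ⟨(U i).2.preimage k, ?_⟩
  show MorphismProperty.isomorphisms CommRingCat (k ∣_ (U i).1).appTop
  rw [← Scheme.Hom.resLE_eq_morphismRestrict]
  refine ((MorphismProperty.isomorphisms CommRingCat).arrow_mk_iso_iff
    (arrowResLEAppIso k (U i).1 _ le_rfl)).2 ?_
  rw [← Scheme.Hom.app_eq_appLE]
  exact (ConcreteCategory.isIso_iff_bijective _).2 (h i)

theorem map_genericPoint {A B : Scheme.{u}} [IrreducibleSpace A] [IrreducibleSpace B] (t : A ⟶ B) [IsDominant t] :
    t (genericPoint A) = genericPoint B := by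
  have h1 : IsGenericPoint (t (genericPoint A)) (closure (t '' Set.univ)) :=
    (genericPoint_spec A).image t.continuous
  rw [Set.image_univ, t.denseRange.closure_range] at h1
  exact h1.eq (genericPoint_spec B)

theorem isIntegral_image [IsIntegral N] (f : N ⟶ X) [QuasiCompact f] : IsIntegral f.image := by
  haveI : IsReduced f.image := (S2266.result f).1
  haveI : IrreducibleSpace f.image := (S2266.result f).2 inferInstance inferInstance
  exact isIntegral_of_irreducibleSpace_of_isReduced _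

theorem surjective_toImage (f : N ⟶ X) [IsFinite f] : Surjective f.toImage := by
  haveI : IsFinite (f.toImage ≫ f.imageι) := by rw [Scheme.Hom.toImage_imageι]; infer_instance
  haveI : IsFinite f.toImage := IsFinite.of_comp f.toImage f.imageι
  refine ⟨fun y => ?_⟩
  have h : Set.range f.toImage = Set.univ := by
    rw [← f.toImage.isClosedMap.isClosed_range.closure_eq, f.toImage.denseRange.closure_range]
  exact (Set.range_eq_univ.1 h) y

/-- A scheme dominated by a finite morphism is finite. -/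
theorem isFinite_of_surjective {A B C : Scheme.{u}} (t : A ⟶ B) [Surjective t] (q : B ⟶ C) [IsProper q]
    [IsFinite (t ≫ q)] : IsFinite q := by
  rw [IsFinite.iff_isProper_and_locallyQuasiFinite]
  refine ⟨inferInstance, LocallyQuasiFinite.of_finite_preimage_singleton _ fun c => ?_⟩
  refine (((t ≫ q).finite_preimage_singleton c).image t).subset fun y hy => ?_
  obtain ⟨x, rfl⟩ := t.surjective y
  exact ⟨x, by rw [Set.mem_preimage, Scheme.Hom.comp_apply]; exact hy, rfl⟩

variable [IsIntegral N] [IsNoetherian X] (f₀ : N ⟶ X) [IsFinite f₀]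
  (hcl : ∀ z : N, z ≠ genericPoint N → IsClosed ({z} : Set N))
  (hpid : ∀ z : N, IsPrincipalIdealRing (N.presheaf.stalk z))

include hpid in
/-- A closed point off the generic image pulls back to an effective Cartier divisor. -/
theorem isEffCartier_pullback [IsLocallyNoetherian N] {X' : Scheme.{u}} (f : N ⟶ X') {p : X'}
    (hp : IsClosed ({p} : Set X')) (hne : f (genericPoint N) ≠ p) :
    BlowUp.IsEffCartierIdeal ((pt hp).comap f) := by
  refine MeroX.isEffCartier_of_stalk _ fun x _ U hxU => ?_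
  haveI := hpid x
  obtain ⟨g, hg⟩ := (IsPrincipalIdealRing.principal (sI ((pt hp).comap f) x)).1
  refine ⟨g, mem_nonZeroDivisors_of_ne_zero fun h0 => ?_, ((sI_eq _ U hxU).symm.trans hg)⟩
  rw [h0, Submodule.span_zero_singleton] at hg
  have h1 := sI_spec ((pt hp).comap f) (genericPoint_specializes x)
  rw [hg, Ideal.map_bot, PointBlow.sI_eq_top (by
    rw [Scheme.IdealSheafData.support_comap]
    exact fun h => hne ((PointBlow.mem_support_pt hp _).1 h))] at h1
  exact top_ne_bot h1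

include hcl hpid in
/-- Finitely many point blow-ups make the image regular. -/
theorem exists_seq_regular : ∃ (X' : Scheme.{u}) (g : X' ⟶ X), Resolve.IsPtBlowupSeq g ∧ IsProper g ∧
    ∃ f : N ⟶ X', f ≫ g = f₀ ∧ ∀ y : f.image, IsRegularLocalRing (f.image.presheaf.stalk y) := by
  classical
  haveI : IsLocallyNoetherian N := LocallyOfFiniteType.isLocallyNoetherian f₀
  obtain ⟨t₀, ht₀⟩ := isCompact_univ.elim_finite_subcover (fun U : X.affineOpens => (U.1 : Set X))
    (fun U => U.1.isOpen) fun x _ => by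
      obtain ⟨_, ⟨U, hU, rfl⟩, hxU, -⟩ := X.isBasis_affineOpens.exists_subset_of_mem_open (Set.mem_univ x) isOpen_univ
      exact Set.mem_iUnion.2 ⟨⟨U, hU⟩, hxU⟩
  haveI : ∀ i : t₀, IsNoetherian Γ(X, i.1.1) (Sec f₀ i.1.1) := fun i => by
    haveI : IsNoetherianRing Γ(X, i.1.1) := IsLocallyNoetherian.component_noetherian i.1
    haveI : Module.Finite Γ(X, i.1.1) (Sec f₀ i.1.1) := IsFinite.finite_app (f := f₀) i.1.1 i.1.2
    exact isNoetherian_of_isNoetherianRing_of_finite _ _
  suffices key : ∀ (P : ∀ i : t₀, Submodule Γ(X, i.1.1) (Sec f₀ i.1.1)) (X' : Scheme.{u}) (g : X' ⟶ X),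
      Resolve.IsPtBlowupSeq g → IsProper g → ∀ (f : N ⟶ X') (hfg : f ≫ g = f₀),
      (fun i : t₀ => secs f₀ i.1.1 f.toImage (f.imageι ≫ g) (by rw [Scheme.Hom.toImage_imageι_assoc, hfg])) = P →
      ∃ (X' : Scheme.{u}) (g : X' ⟶ X), Resolve.IsPtBlowupSeq g ∧ IsProper g ∧
        ∃ f : N ⟶ X', f ≫ g = f₀ ∧ ∀ y : f.image, IsRegularLocalRing (f.image.presheaf.stalk y) from
    key _ X (𝟙 X) (Resolve.IsPtBlowupSeq.iso (Iso.refl X)) inferInstance f₀ (Category.comp_id _) rfl
  haveI : WellFoundedGT (∀ i : t₀, Submodule Γ(X, i.1.1) (Sec f₀ i.1.1)) :=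
    ⟨InvImage.wf (fun (P : ∀ i : t₀, Submodule Γ(X, i.1.1) (Sec f₀ i.1.1)) (i : t₀) => OrderDual.toDual (P i))
      (Pi.wellFoundedLT (α := fun i : t₀ => (Submodule Γ(X, i.1.1) (Sec f₀ i.1.1))ᵒᵈ)).wf⟩
  intro P
  induction P using WellFoundedGT.induction with
  | ind P ih =>
  intro X' g hg hgP f hfg hP
  haveI := hgP
  haveI : IsFinite (f ≫ g) := by rw [hfg]; infer_instance
  haveI : IsFinite f := IsFinite.of_comp f g
  haveI : IsLocallyNoetherian X' := LocallyOfFiniteType.isLocallyNoetherian g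
  haveI := isIntegral_image f
  haveI := surjective_toImage f
  haveI : IsFinite (f.toImage ≫ f.imageι ≫ g) := by rw [Scheme.Hom.toImage_imageι_assoc]; infer_instance
  haveI hq : IsFinite (f.imageι ≫ g) := isFinite_of_surjective f.toImage _
  haveI : IsLocallyNoetherian f.image := LocallyOfFiniteType.isLocallyNoetherian (f.imageι ≫ g)
  by_cases hreg : ∀ y : f.image, IsRegularLocalRing (f.image.presheaf.stalk y)
  · exact ⟨X', g, hg, hgP, f, hfg, hreg⟩
  push Not at hreg
  obtain ⟨y, hy⟩ := hreg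
  have hygen : y ≠ genericPoint f.image := by
    intro h
    subst h
    haveI : IsRegularLocalRing f.image.functionField := inferInstance
    exact hy this
  have hfy : f.imageι y ≠ f (genericPoint N) := fun h => hygen (f.imageι.isEmbedding.injective (by
    rw [h, ← map_genericPoint f.toImage, ← Scheme.Hom.comp_apply, Scheme.Hom.toImage_imageι]))
  obtain ⟨y', hy'⟩ := f.toImage.surjective y
  have hp : IsClosed ({f.imageι y} : Set X') := by
    have h1 : f y' = f.imageι y := by rw [← hy', ← Scheme.Hom.comp_apply, Scheme.Hom.toImage_imageι]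
    rw [← h1, ← Set.image_singleton]
    exact f.isClosedMap _ (hcl y' fun h => hfy (by rw [← h1, h]))
  obtain ⟨X'', b, hb⟩ := BlowUpLib.exists_blowUp (C := pt hp)
  haveI := PointBlow.isProper_point hp hb
  obtain ⟨f', hf', -⟩ := hb.2 N f (isEffCartier_pullback hpid f hp hfy.symm)
  have hfg' : f' ≫ b ≫ g = f₀ := by rw [← Category.assoc, hf', hfg]
  haveI : IsFinite (f' ≫ b ≫ g) := by rw [hfg']; infer_instance
  haveI : IsFinite f' := IsFinite.of_comp f' (b ≫ g)
  haveI := isIntegral_image f'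
  haveI := surjective_toImage f'
  haveI : IsFinite (f'.toImage ≫ f'.imageι ≫ b ≫ g) := by rw [Scheme.Hom.toImage_imageι_assoc]; infer_instance
  haveI hq' : IsFinite (f'.imageι ≫ b ≫ g) := isFinite_of_surjective f'.toImage _
  have hle : f.imageι.ker ≤ (f'.imageι ≫ b).ker := by
    refine le_of_eq ?_
    rw [Scheme.IdealSheafData.ker_subschemeι]
    conv_lhs => rw [← hf', ← Scheme.Hom.toImage_imageι_assoc f' b]
    rw [Scheme.Hom.ker_comp, ker_eq_bot f'.toImage, Scheme.IdealSheafData.map_bot]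
  let k := IsClosedImmersion.lift f.imageι (f'.imageι ≫ b) hle
  have hk : k ≫ f.imageι = f'.imageι ≫ b := IsClosedImmersion.lift_fac _ _ _
  have hkt : f'.toImage ≫ k = f.toImage := by
    rw [← cancel_mono f.imageι, Category.assoc, hk, Scheme.Hom.toImage_imageι_assoc, hf',
      Scheme.Hom.toImage_imageι]
  have hkq : k ≫ f.imageι ≫ g = f'.imageι ≫ b ≫ g := by rw [← Category.assoc, hk, Category.assoc]
  haveI : IsFinite (k ≫ f.imageι ≫ g) := by rw [hkq]; exact hq'
  haveI : IsFinite k := IsFinite.of_comp k (f.imageι ≫ g)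
  let P' : ∀ i : t₀, Submodule Γ(X, i.1.1) (Sec f₀ i.1.1) := fun i =>
    secs f₀ i.1.1 f'.toImage (f'.imageι ≫ b ≫ g) (by rw [Scheme.Hom.toImage_imageι_assoc, hfg'])
  have hle' : P ≤ P' := fun i => by
    rw [← hP]
    exact secs_le f₀ i.1.1 _ _ _ _ k _ _ hkt hkq
  rcases eq_or_lt_of_le hle' with heq | hlt
  swap
  · exact ih P' hlt X'' (b ≫ g) (Resolve.IsPtBlowupSeq.step b g _ hp hb hg) inferInstance f' hfg' rfl
  exfalso
  haveI : IsIso k := by
    refine isIso_of_bijective k (fun i : t₀ => ⟨(f.imageι ≫ g) ⁻¹ᵁ i.1.1, i.1.2.preimage _⟩) ?_ fun i => ?_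
    · refine top_le_iff.1 fun z _ => ?_
      obtain ⟨U, hU, hzU⟩ := Set.mem_iUnion₂.1 (ht₀ (Set.mem_univ ((f.imageι ≫ g) z)))
      exact Opens.mem_iSup.2 ⟨⟨U, hU⟩, hzU⟩
    · exact bijective_app_of_secs_eq f₀ i.1.1 f.toImage (f.imageι ≫ g) _ f'.toImage k _ _ hkt hkq i.1.2
        (ker_eq_bot _) (ker_eq_bot _) ((congrFun hP i).trans (congrFun heq i))
  -- the maximal ideal at `y` becomes principal
  refine hy ?_
  obtain ⟨γ, -, hγ⟩ := exists_gen hb.1 ((inv k ≫ f'.imageι) y)
  have h1 : sI ((pt hp).comap f.imageι) y = maximalIdeal (f.image.presheaf.stalk y) := by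
    rw [sI_comap, NormSeq.sI_pt hp]
    refine le_antisymm (map_maximalIdeal_le _) fun a ha => ?_
    obtain ⟨c, rfl⟩ := f.imageι.stalkMap_surjective y a
    exact Ideal.mem_map_of_mem _ ((IsLocalRing.mem_maximalIdeal _).2 fun hu => ha (hu.map _))
  have h2 : sI ((pt hp).comap f.imageι) y = Ideal.span {(inv k ≫ f'.imageι).stalkMap y γ} := by
    have e : f.imageι = (inv k ≫ f'.imageι) ≫ b := by rw [Category.assoc, ← hk, IsIso.inv_hom_id_assoc]
    have e2 : (pt hp).comap f.imageι = ((pt hp).comap b).comap (inv k ≫ f'.imageι) := by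
      rw [← Scheme.IdealSheafData.comap_comp]
      exact congrArg (fun j => Scheme.IdealSheafData.comap (pt hp) j) e
    rw [e2, sI_comap, hγ, Ideal.map_span, Set.image_singleton]
  by_cases hF : IsField (f.image.presheaf.stalk y)
  · letI := hF.toField
    infer_instance
  haveI : IsDiscreteValuationRing (f.image.presheaf.stalk y) :=
    ((IsDiscreteValuationRing.TFAE _ hF).out 0 4 (a := IsDiscreteValuationRing (f.image.presheaf.stalk y))
      (b := (maximalIdeal (f.image.presheaf.stalk y)).IsPrincipal) rfl rfl).mpr ⟨_, h1.symm.trans h2⟩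
  infer_instance

end Groth.Agent.CurveRes
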