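import Groth.Agent.NormCurve.Delta
import Groth.Agent.NormCurve.Scheme
import Groth.Agent.NormCurve.Normal
import Groth.Agent.Triage.NormInX
import Groth.Agent.S1297
import Groth.Agent.RegLoc6.Normal
import Groth.Prelude.Def_Curv2
import Mathlib

/-! Resolution of one-dimensional integral schemes and finiteness of the normalization. -/

open CategoryTheory CategoryTheory.Limits AlgebraicGeometry Opposite TopologicalSpace

set_option autoImplicit false
set_option linter.style.haveILetI false
set_option backward.isDefEq.respectTransparency false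
set_option backward.isDefEq.respectTransparency.types false

noncomputable section

namespace Groth.Agent.CurveRes

universe u

variable (X : Scheme.{u}) [IsIntegral X]
  [QuasiCompact (X.fromSpecStalk (genericPoint X))] [QuasiSeparated (X.fromSpecStalk (genericPoint X))]

theorem finite_integralClosure_of_isFinite [IsFinite (Curv2.normalizationι X)] {U : X.Opens} (hU : IsAffineOpen U)
    (hne : (U : Set X).Nonempty) (L : Type u) [Field L] [Algebra Γ(X, U) L] [IsFractionRing Γ(X, U) L] :
    Module.Finite Γ(X, U) (integralClosure Γ(X, U) L) := by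
  obtain ⟨e, he⟩ := NormCurve.exists_normalizationEquiv X hU hne L
  have h1 : ((Curv2.normalizationι X).app U).hom.Finite := IsFinite.finite_app (f := Curv2.normalizationι X) U hU
  have h2 : algebraMap Γ(X, U) (integralClosure Γ(X, U) L) =
      e.toRingHom.comp ((Curv2.normalizationι X).app U).hom := RingHom.ext fun a => (he a).symm
  refine RingHom.finite_algebraMap.1 ?_
  rw [h2]
  exact (RingHom.Finite.of_surjective _ e.surjective).comp h1

/-- Finite integral closures on the affines make the normalization finite. -/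
theorem isFinite_of_forall (h : ∀ (U : X.Opens), IsAffineOpen U → (U : Set X).Nonempty → ∃ (L : Type u) (_ : Field L)
      (_ : Algebra Γ(X, U) L), IsFractionRing Γ(X, U) L ∧ Module.Finite Γ(X, U) (integralClosure Γ(X, U) L)) :
    IsFinite (Curv2.normalizationι X) := by
  haveI : IsAffineHom (Curv2.normalizationι X) :=
    inferInstanceAs (IsAffineHom (X.fromSpecStalk (genericPoint X)).fromNormalization)
  refine ⟨fun U hU => ?_⟩
  rcases (U : Set X).eq_empty_or_nonempty with he | hne
  · have e : U = ⊥ := Opens.ext he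
    subst e
    haveI : Subsingleton Γ(Curv2.normalization X, Curv2.normalizationι X ⁻¹ᵁ ⊥) := by
      rw [Scheme.Hom.preimage_bot]; infer_instance
    exact RingHom.Finite.of_surjective _ fun z => ⟨0, Subsingleton.elim _ _⟩
  obtain ⟨L, _, _, _, hfin⟩ := h U hU hne
  haveI : Nonempty (U : X.Opens) := hne.to_subtype
  obtain ⟨e, he⟩ := NormCurve.exists_normalizationEquiv X hU hne L
  have h1 : (algebraMap Γ(X, U) (integralClosure Γ(X, U) L)).Finite := RingHom.finite_algebraMap.2 hfin
  have h2 : ((Curv2.normalizationι X).app U).hom =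
      e.symm.toRingHom.comp (algebraMap Γ(X, U) (integralClosure Γ(X, U) L)) :=
    RingHom.ext fun a => by
      show _ = e.symm _
      rw [← he, e.symm_apply_apply]
  show ((Curv2.normalizationι X).app U).hom.Finite
  rw [h2]
  exact (RingHom.Finite.of_surjective _ e.symm.surjective).comp h1

/-- A proper dominant map from a normal integral scheme makes the normalization finite. -/
theorem isFinite_of_proper [IsLocallyNoetherian X] {W : Scheme.{u}} [IsIntegral W] (g : W ⟶ X) [IsProper g] [IsDominant g]
    (hN : ∀ w : W, IsIntegrallyClosed (W.presheaf.stalk w)) : IsFinite (Curv2.normalizationι X) := by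
  have hgen : g (genericPoint W) = genericPoint X := by
    have h1 : IsGenericPoint (g (genericPoint W)) (closure (g '' Set.univ)) :=
      (genericPoint_spec W).image g.continuous
    rw [Set.image_univ, g.denseRange.closure_range] at h1
    exact h1.eq (genericPoint_spec X)
  refine isFinite_of_forall X fun U hU hne => ?_
  haveI : Nonempty U := hne.to_subtype
  have hξ : genericPoint X ∈ U :=
    ((genericPoint_spec X).mem_open_set_iff U.isOpen).2 (by rwa [Set.univ_inter])
  have hξ' : genericPoint W ∈ g ⁻¹ᵁ U := show g (genericPoint W) ∈ U from hgen.symm ▸ hξ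
  haveI : IsFractionRing Γ(X, U) X.functionField := functionField_isFractionRing_of_isAffineOpen X U hU
  haveI : IsNoetherianRing Γ(X, U) := IsLocallyNoetherian.component_noetherian ⟨U, hU⟩
  refine ⟨X.functionField, inferInstance, inferInstance, inferInstance, ?_⟩
  let R := Γ(X, U)
  let φ : X.functionField →+* W.functionField :=
    (X.presheaf.stalkSpecializes (specializes_of_eq hgen) ≫ g.stalkMap (genericPoint W)).hom
  have hφ : ∀ r : R, φ (algebraMap R X.functionField r) =
      W.presheaf.germ (g ⁻¹ᵁ U) (genericPoint W) hξ' (g.app U r) := fun r => by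
    show (g.stalkMap (genericPoint W)).hom ((X.presheaf.stalkSpecializes (specializes_of_eq hgen)).hom
      ((X.presheaf.germ U (genericPoint X) hξ).hom r)) = _
    rw [show (X.presheaf.stalkSpecializes (specializes_of_eq hgen)).hom ((X.presheaf.germ U (genericPoint X) hξ).hom r) =
      (X.presheaf.germ U (g (genericPoint W)) hξ').hom r from X.presheaf.germ_stalkSpecializes_apply hξ _ r]
    exact Scheme.Hom.germ_stalkMap_apply g U (genericPoint W) hξ' r
  letI : Algebra R Γ(W, g ⁻¹ᵁ U) := (g.app U).hom.toAlgebra
  haveI : Module.Finite R Γ(W, g ⁻¹ᵁ U) := RingHom.finite_algebraMap.1 (S1297.finite_app g hU)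
  have hsec : ∀ z : integralClosure R X.functionField, ∃ s : Γ(W, g ⁻¹ᵁ U),
      W.presheaf.germ (g ⁻¹ᵁ U) (genericPoint W) hξ' s = φ z := fun z => by
    obtain ⟨P, hP, hPz⟩ := z.2
    refine Triage.NormInX.exists_section hN hξ' (φ z) ⟨P.map (g.app U).hom, hP.map _, ?_⟩
    rw [Polynomial.eval₂_map, show ((W.presheaf.germ (g ⁻¹ᵁ U) (genericPoint W) hξ').hom).comp (g.app U).hom =
      φ.comp (algebraMap R X.functionField) from RingHom.ext fun r => (hφ r).symm, ← Polynomial.hom_eval₂, hPz, map_zero]
  choose s hs using hsec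
  have hinj : Function.Injective (W.presheaf.germ (g ⁻¹ᵁ U) (genericPoint W) hξ') :=
    germ_injective_of_isIntegral W (genericPoint W) hξ'
  let f : integralClosure R X.functionField →ₗ[R] Γ(W, g ⁻¹ᵁ U) :=
    { toFun := s
      map_add' := fun a b => hinj (by rw [map_add, hs, hs, hs]; exact map_add φ _ _)
      map_smul' := fun r a => hinj (by
        rw [RingHom.id_apply, show r • s a = g.app U r * s a from rfl, map_mul, hs, hs, ← hφ, ← map_mul]
        rfl) }
  exact Module.Finite.of_injective f fun a b hab =>
    Subtype.ext (φ.injective (by rw [← hs, ← hs]; exact congrArg _ hab))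

/-- The normalization of a one-dimensional Noetherian scheme is regular. -/
theorem regular_normalization [IsLocallyNoetherian X] (hdim : topologicalKrullDim X ≤ 1) (y : Curv2.normalization X) :
    IsRegularLocalRing ((Curv2.normalization X).presheaf.stalk y) := by
  obtain ⟨_, ⟨U, hU, rfl⟩, hxU, -⟩ := X.isBasis_affineOpens.exists_subset_of_mem_open
    (Set.mem_univ (Curv2.normalizationι X y)) isOpen_univ
  have hW := NormCurve.preimage_isAffine X hU
  obtain ⟨hdom, -, hded, -⟩ := NormCurve.facts_app X hdim hU ⟨_, hxU⟩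
  letI := (Curv2.normalization X).presheaf.algebra_section_stalk (⟨y, hxU⟩ : (Curv2.normalizationι X ⁻¹ᵁ U))
  haveI := hW.isLocalization_stalk (⟨y, hxU⟩ : (Curv2.normalizationι X ⁻¹ᵁ U))
  let P := (hW.primeIdealOf (⟨y, hxU⟩ : (Curv2.normalizationι X ⁻¹ᵁ U))).asIdeal
  haveI : IsRegularLocalRing (Localization.AtPrime P) := by
    by_cases hP : P = ⊥
    · have hf : IsField (Localization.AtPrime P) := by
        have hle : P.primeCompl = nonZeroDivisors _ := by
          ext a
          simp [Ideal.primeCompl, hP]
        haveI : IsFractionRing Γ(Curv2.normalization X, Curv2.normalizationι X ⁻¹ᵁ U) (Localization.AtPrime P) := by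
          show IsLocalization (nonZeroDivisors Γ(Curv2.normalization X, Curv2.normalizationι X ⁻¹ᵁ U)) (Localization.AtPrime P)
          rw [← hle]; infer_instance
        exact (IsFractionRing.toField Γ(Curv2.normalization X, Curv2.normalizationι X ⁻¹ᵁ U)).toIsField
      letI := hf.toField
      infer_instance
    · haveI := IsLocalization.AtPrime.isDiscreteValuationRing_of_dedekind_domain
        Γ(Curv2.normalization X, Curv2.normalizationι X ⁻¹ᵁ U) hP (Localization.AtPrime P)
      infer_instance
  exact IsRegularLocalRing.of_ringEquiv (IsLocalization.algEquiv P.primeCompl (Localization.AtPrime P)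
    ((Curv2.normalization X).presheaf.stalk y)).toRingEquiv

open Groth.Agent.NormCurve in
/-- The normalization is an isomorphism over some dense open. -/
theorem exists_isIso_of_isFinite [IsFinite (Curv2.normalizationι X)] :
    ∃ U : X.Opens, Dense ((U : Set X)) ∧ IsIso (Curv2.normalizationι X ∣_ U) := by
  obtain ⟨_, ⟨U, hU, rfl⟩, hxU, -⟩ := X.isBasis_affineOpens.exists_subset_of_mem_open
    (Set.mem_univ (genericPoint X)) isOpen_univ
  have hne : (U : Set X).Nonempty := ⟨_, hxU⟩
  haveI : Nonempty (U : X.Opens) := hne.to_subtype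
  let R := Γ(X, U)
  let L := FractionRing R
  haveI := finite_integralClosure_of_isFinite X hU hne L
  obtain ⟨S, hS⟩ := Module.Finite.fg_top (R := R) (M := integralClosure R L)
  obtain ⟨⟨f, hf⟩, hfS⟩ := IsLocalization.exist_integer_multiples (nonZeroDivisors R) S
    (fun z => (z : L))
  -- `f` clears all denominators
  have hall : ∀ z : integralClosure R L, ∃ r : R, algebraMap R L r = f • (z : L) := by
    intro z
    have hz : z ∈ Submodule.span R (S : Set (integralClosure R L)) := hS ▸ Submodule.mem_top
    induction hz using Submodule.span_induction with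
    | mem z hz => exact hfS z hz
    | zero => exact ⟨0, by simp⟩
    | add y z _ _ hy hz =>
      obtain ⟨r, hr⟩ := hy
      obtain ⟨r', hr'⟩ := hz
      exact ⟨r + r', by rw [map_add, hr, hr', ← smul_add]; rfl⟩
    | smul a z _ hz =>
      obtain ⟨r, hr⟩ := hz
      exact ⟨a * r, by rw [map_mul, hr, SetLike.val_smul, Algebra.smul_def, Algebra.smul_def, Algebra.smul_def]; ring⟩
  let V := X.basicOpen f
  have hV : IsAffineOpen V := hU.basicOpen f
  have hfne : f ≠ 0 := nonZeroDivisors.ne_zero hf
  have hgV : genericPoint X ∈ V := ((genericPoint_spec X).mem_open_set_iff V.isOpen).2 (by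
    rw [Set.univ_inter]
    by_contra h
    exact hfne ((AlgebraicGeometry.basicOpen_eq_bot_iff f).1 (Opens.ext (Set.not_nonempty_iff_eq_empty.1 h))))
  have hneV : (V : Set X).Nonempty := ⟨_, hgV⟩
  haveI : Nonempty (V : X.Opens) := hneV.to_subtype
  haveI := hU.isLocalization_basicOpen f
  refine ⟨V, V.isOpen.dense hneV, ?_⟩
  -- `Γ(X, V)` is integrally closed
  let ψ : Γ(X, V) →+* L := IsLocalization.Away.lift f (g := algebraMap R L)
    (IsUnit.mk0 _ (by rw [Ne, map_eq_zero_iff _ (IsFractionRing.injective R L)]; exact hfne))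
  letI := ψ.toAlgebra
  haveI : IsScalarTower R Γ(X, V) L := IsScalarTower.of_algebraMap_eq fun r =>
    (IsLocalization.Away.lift_eq f _ r).symm
  haveI : IsFractionRing Γ(X, V) L :=
    IsFractionRing.isFractionRing_of_isDomain_of_isLocalization (Submonoid.powers f) Γ(X, V) L
  obtain ⟨e, he⟩ := NormCurve.exists_normalizationEquiv X hV hneV L
  have hsurj : Function.Surjective (algebraMap Γ(X, V) (integralClosure Γ(X, V) L)) := by
    intro z
    obtain ⟨⟨_, n, rfl⟩, hn⟩ :=
      IsIntegral.exists_multiple_integral_of_isLocalization (Submonoid.powers f) (z : L) z.2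
    obtain ⟨r, hr⟩ := hall ⟨_, hn⟩
    obtain ⟨v, hv⟩ := IsLocalization.Away.algebraMap_isUnit (S := Γ(X, V)) f
    refine ⟨algebraMap R Γ(X, V) r * ↑v⁻¹ ^ (n + 1), Subtype.ext ?_⟩
    show algebraMap Γ(X, V) L (algebraMap R Γ(X, V) r * ↑v⁻¹ ^ (n + 1)) = z
    rw [map_mul, ← IsScalarTower.algebraMap_apply R Γ(X, V) L, hr]
    show f • ((f ^ n : R) • (z : L)) * _ = _
    rw [Algebra.smul_def, Algebra.smul_def, IsScalarTower.algebraMap_apply R Γ(X, V) L,
      IsScalarTower.algebraMap_apply R Γ(X, V) L (f ^ n), map_pow, ← hv]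
    rw [show algebraMap Γ(X, V) L ↑v * (algebraMap Γ(X, V) L (↑v ^ n) * (z : L)) *
        algebraMap Γ(X, V) L (↑v⁻¹ ^ (n + 1)) =
        algebraMap Γ(X, V) L ((↑v : Γ(X, V)) ^ (n + 1) * ↑v⁻¹ ^ (n + 1)) * z by
      simp only [map_mul, map_pow]; ring]
    rw [← mul_pow, Units.mul_inv, one_pow, map_one, one_mul]
  have hbij : Function.Bijective ((Curv2.normalizationι X).app V) := by
    have h2 : ∀ a, (Curv2.normalizationι X).app V a = e.symm (algebraMap Γ(X, V) (integralClosure Γ(X, V) L) a) :=
      fun a => by rw [← he, e.symm_apply_apply]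
    refine ⟨NormCurve.app_injective X V, fun z => ?_⟩
    obtain ⟨a, ha⟩ := hsurj (e z)
    exact ⟨a, by rw [h2, ha, e.symm_apply_apply]⟩
  haveI : IsAffineHom (Curv2.normalizationι X) :=
    inferInstanceAs (IsAffineHom (X.fromSpecStalk (genericPoint X)).fromNormalization)
  haveI : IsAffine V.toScheme := hV
  haveI : IsAffine ((Curv2.normalizationι X ⁻¹ᵁ V : (Curv2.normalization X).Opens) : Scheme.{u}) :=
    hV.preimage (Curv2.normalizationι X)
  let g : (Curv2.normalizationι X ⁻¹ᵁ V).toScheme ⟶ V.toScheme := Curv2.normalizationι X ∣_ V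
  show IsIso g
  have h4 : IsIso g.appTop := by
    have h : (MorphismProperty.isomorphisms CommRingCat) ((Curv2.normalizationι X).resLE V
        (Curv2.normalizationι X ⁻¹ᵁ V) le_rfl).appTop := by
      refine ((MorphismProperty.isomorphisms CommRingCat).arrow_mk_iso_iff
        (arrowResLEAppIso (Curv2.normalizationι X) V _ le_rfl)).2 ?_
      rw [← Scheme.Hom.app_eq_appLE]
      exact (ConcreteCategory.isIso_iff_bijective _).2 hbij
    rwa [Scheme.Hom.resLE_eq_morphismRestrict] at h
  rw [show g = (Curv2.normalizationι X ⁻¹ᵁ V).toScheme.isoSpec.hom ≫ Spec.map g.appTop ≫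
    V.toScheme.isoSpec.inv by rw [← Category.assoc, Iso.eq_comp_inv, Scheme.isoSpec_hom_naturality]]
  infer_instance

end Groth.Agent.CurveRes
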