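import Mathlib
import Groth.Agent.CurveRes.Blow
import Groth.Agent.CurveRes.Basic
import Groth.Agent.PointBlow.Main
import Groth.Agent.Lib.BlowUpInt

/-!
# Point blow-up sequences over integral curves
-/

set_option autoImplicit false
set_option linter.style.haveILetI false
set_option linter.unusedSectionVars false
set_option backward.isDefEq.respectTransparency false
set_option backward.isDefEq.respectTransparency.types false
set_option maxHeartbeats 800000

universe u

open CategoryTheory CategoryTheory.Limits AlgebraicGeometry TopologicalSpace IsLocalRing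
open Groth.Agent.PointBlow (pt)

noncomputable section

namespace Groth.Agent.CurveRes

/-- On an irreducible curve every point but the generic one is closed. -/
theorem isClosed_of_dim_le_one {X : Scheme.{u}} [IrreducibleSpace X] (hX : topologicalKrullDim X ≤ 1) {x : X}
    (hx : x ≠ genericPoint X) : IsClosed ({x} : Set X) := by
  rw [← closure_eq_iff_isClosed]
  by_contra hne
  obtain ⟨y, hy, hyx⟩ : ∃ y ∈ closure ({x} : Set X), y ≠ x := by
    by_contra hc; push Not at hc
    exact hne (Set.Subset.antisymm hc subset_closure)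
  let Z : X → TopologicalSpace.IrreducibleCloseds X := fun z =>
    ⟨closure {z}, isIrreducible_singleton.closure, isClosed_closure⟩
  have hZ : ∀ a b : X, a ∈ closure ({b} : Set X) → a ≠ b → Z a < Z b := by
    intro a b hab hne'
    refine lt_of_le_of_ne (show closure ({a} : Set X) ⊆ closure {b} from closure_minimal (by simpa using hab) isClosed_closure) fun he => hne' ?_
    exact inseparable_iff_eq.1 (inseparable_iff_closure_eq.2 (congrArg TopologicalSpace.IrreducibleCloseds.carrier he))
  have h1 := hZ y x hy hyx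
  have h2 := hZ x (genericPoint X) (by rw [genericPoint_closure X]; trivial) hx
  let l : LTSeries (TopologicalSpace.IrreducibleCloseds X) := ⟨2, ![Z y, Z x, Z (genericPoint X)], Fin.forall_fin_two.2 ⟨h1, h2⟩⟩
  have hlen : l.length = 2 := rfl
  have := (Order.LTSeries.length_le_krullDim l).trans hX
  rw [hlen] at this
  exact absurd this (by decide)

/-- Above a curve a finite dominant morphism has closed non-generic points. -/
theorem isClosed_of_finite {A B : Scheme.{u}} [IrreducibleSpace A] [IrreducibleSpace B] (ν : A ⟶ B) [IsFinite ν]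
    [IsDominant ν] (hB : ∀ y : B, y ≠ genericPoint B → IsClosed ({y} : Set B)) (z : A) (hz : z ≠ genericPoint A) :
    IsClosed ({z} : Set A) := by
  have hfib : ∀ {a a' : A}, a ⤳ a' → ν a = ν a' → a = a' := fun {a a'} hs he => by
    haveI := (ν.isDiscrete_preimage_singleton (ν a')).to_subtype
    have h : (⟨a, he⟩ : ν ⁻¹' {ν a'}) ⤳ ⟨a', rfl⟩ := subtype_specializes_iff _ _ |>.2 hs
    exact congrArg Subtype.val (specializes_iff_eq.1 h)
  have hνz : ν z ≠ genericPoint B := fun h => hz
    (hfib (genericPoint_specializes z) ((map_genericPoint ν).trans h.symm)).symm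
  refine isClosed_of_closure_subset fun w hw => ?_
  have h1 : z ⤳ w := specializes_iff_mem_closure.2 hw
  have h2 : ν w ∈ ({ν z} : Set B) := by
    rw [← (hB _ hνz).closure_eq]
    exact specializes_iff_mem_closure.1 (h1.map ν.continuous)
  exact (hfib h1 (Set.mem_singleton_iff.1 h2).symm).symm

variable (Y : Scheme.{u}) [IsIntegral Y] [QuasiCompact (Y.fromSpecStalk (genericPoint Y))]
  [QuasiSeparated (Y.fromSpecStalk (genericPoint Y))] [IsLocallyNoetherian Y]

/-- The local rings of the normalization of a curve are principal ideal rings. -/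
theorem isPID_normalization (hdim : topologicalKrullDim Y ≤ 1) (y : Curv2.normalization Y) :
    IsPrincipalIdealRing ((Curv2.normalization Y).presheaf.stalk y) := by
  obtain ⟨_, ⟨U, hU, rfl⟩, hxU, -⟩ := Y.isBasis_affineOpens.exists_subset_of_mem_open
    (Set.mem_univ (Curv2.normalizationι Y y)) isOpen_univ
  have hW := NormCurve.preimage_isAffine Y hU
  obtain ⟨hdom, -, hded, -⟩ := NormCurve.facts_app Y hdim hU ⟨_, hxU⟩
  letI := (Curv2.normalization Y).presheaf.algebra_section_stalk (⟨y, hxU⟩ : (Curv2.normalizationι Y ⁻¹ᵁ U))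
  haveI := hW.isLocalization_stalk (⟨y, hxU⟩ : (Curv2.normalizationι Y ⁻¹ᵁ U))
  let P := (hW.primeIdealOf (⟨y, hxU⟩ : (Curv2.normalizationι Y ⁻¹ᵁ U))).asIdeal
  haveI : IsPrincipalIdealRing (Localization.AtPrime P) := by
    by_cases hP : P = ⊥
    · have hf : IsField (Localization.AtPrime P) := by
        have hle : P.primeCompl = nonZeroDivisors _ := by
          ext a
          simp [Ideal.primeCompl, hP]
        haveI : IsFractionRing Γ(Curv2.normalization Y, Curv2.normalizationι Y ⁻¹ᵁ U) (Localization.AtPrime P) := by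
          show IsLocalization (nonZeroDivisors Γ(Curv2.normalization Y, Curv2.normalizationι Y ⁻¹ᵁ U)) (Localization.AtPrime P)
          rw [← hle]; infer_instance
        exact (IsFractionRing.toField Γ(Curv2.normalization Y, Curv2.normalizationι Y ⁻¹ᵁ U)).toIsField
      letI := hf.toField
      infer_instance
    · haveI := IsLocalization.AtPrime.isDiscreteValuationRing_of_dedekind_domain
        Γ(Curv2.normalization Y, Curv2.normalizationι Y ⁻¹ᵁ U) hP (Localization.AtPrime P)
      infer_instance
  exact IsPrincipalIdealRing.of_surjective (IsLocalization.algEquiv P.primeCompl (Localization.AtPrime P)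
    ((Curv2.normalization Y).presheaf.stalk y)).toRingEquiv.toRingHom
    (IsLocalization.algEquiv P.primeCompl (Localization.AtPrime P) ((Curv2.normalization Y).presheaf.stalk y)).surjective

/-- A finite birational normalization is dominant. -/
theorem isDominant_normalizationι [IsFinite (Curv2.normalizationι Y)] : IsDominant (Curv2.normalizationι Y) := by
  obtain ⟨U, hU, hi⟩ := exists_isIso_of_isFinite Y
  haveI := hi
  refine ⟨hU.mono fun y hy => ⟨((inv (Curv2.normalizationι Y ∣_ U)) ⟨y, hy⟩).1, ?_⟩⟩
  have h := congr($(IsIso.inv_hom_id (Curv2.normalizationι Y ∣_ U)) ⟨y, hy⟩)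
  rw [Scheme.Hom.comp_apply] at h
  exact (morphismRestrict_base_coe _ U _).symm.trans (congrArg Subtype.val h)

/-- Point blow-up sequences over an integral scheme with two points are birational. -/
theorem seq_birational {Y' X : Scheme.{u}} {g : Y' ⟶ X} (h : Resolve.IsPtBlowupSeq g) :
    ∀ [IsLocallyNoetherian X] [IsIntegral X], (∀ x : X, IsClosed ({x} : Set X) → x ≠ genericPoint X) →
      IsIntegral Y' ∧ IsProper g ∧ ∃ V : X.Opens, (V : Set X).Nonempty ∧ IsIso (g ∣_ V) := by
  induction h with
  | @iso A B e =>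
    intro _ hB _
    exact ⟨IsIntegral.of_isIso e.inv, inferInstance, ⊤, ⟨genericPoint B, trivial⟩, inferInstance⟩
  | @step A Z B b r z hz hb hr ih =>
    intro hn hB hne
    obtain ⟨hZ, hrP, V, hV, hiso⟩ := @ih hn hB hne
    haveI := hrP
    haveI := hZ
    haveI := hiso
    haveI : IsLocallyNoetherian Z := LocallyOfFiniteType.isLocallyNoetherian r
    haveI := PointBlow.isProper_point hz hb
    have hrz : IsClosed ({r z} : Set B) := by rw [← Set.image_singleton]; exact r.isClosedMap _ hz
    let V' : B.Opens := V ⊓ ⟨{r z}ᶜ, hrz.isOpen_compl⟩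
    have hgV : genericPoint B ∈ V := (genericPoint_specializes hV.choose).mem_open V.2 hV.choose_spec
    have hV' : genericPoint B ∈ V' := ⟨hgV, fun h => hne _ hrz (Set.mem_singleton_iff.1 h).symm⟩
    haveI : IsIso (r ∣_ V') := PointBlow.isIso_restrict_mono r (U := V) inf_le_left
    haveI : IsIso (b ∣_ (⟨{z}ᶜ, hz.isOpen_compl⟩ : Z.Opens)) := PointBlow.isIso_off hz hb
    haveI : IsIso (b ∣_ (r ⁻¹ᵁ V')) := PointBlow.isIso_restrict_mono b (U := ⟨{z}ᶜ, hz.isOpen_compl⟩)
      fun w hw hwz => hw.2 (congrArg r (Set.mem_singleton_iff.1 hwz))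
    haveI hi : IsIso ((b ≫ r) ∣_ V') := by rw [morphismRestrict_comp]; exact IsIso.comp_isIso
    refine ⟨?_, inferInstance, V', ⟨_, hV'⟩, hi⟩
    rcases Lib.BlowUpInt.isEmpty_or_birational hb with hE | ⟨hA, -⟩
    · exact (hE.false ((inv ((b ≫ r) ∣_ V')) ⟨_, hV'⟩).1).elim
    · exact hA

/-- A morphism through which a finite morphism factors dominantly is an isomorphism where the latter is. -/
theorem isIso_restrict_of_factor {N A B : Scheme.{u}} (t : N ⟶ A) (q : A ⟶ B) [IsAffineHom q] [QuasiCompact t]
    (ht : t.ker = ⊥) {ν : N ⟶ B} (h : t ≫ q = ν) {V : B.Opens} (hV : IsAffineOpen V)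
    (hb : Function.Bijective (ν.app V)) : IsIso (q ∣_ V) := by
  subst h
  have hi : Function.Injective (t.app (q ⁻¹ᵁ V)) := app_injective t ht (hV.preimage q)
  have hc : ∀ a, (t ≫ q).app V a = t.app (q ⁻¹ᵁ V) (q.app V a) := fun a => rfl
  have hq : Function.Bijective (q.app V) := by
    refine ⟨fun a a' e => hb.1 (by rw [hc, hc, e]), fun c => ?_⟩
    obtain ⟨a, ha⟩ := hb.2 (t.app (q ⁻¹ᵁ V) c)
    exact ⟨a, hi ((hc a).symm.trans ha)⟩
  haveI : IsAffine V.toScheme := hV
  haveI : IsAffineHom (q ∣_ V) := IsZariskiLocalAtTarget.restrict (P := @IsAffineHom) ‹_› V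
  refine isIso_of_bijective (q ∣_ V) (fun _ : PUnit.{u + 1} => ⟨⊤, isAffineOpen_top _⟩) iSup_const fun _ => ?_
  refine (ConcreteCategory.isIso_iff_bijective _).1 ?_
  show MorphismProperty.isomorphisms CommRingCat (q ∣_ V).appTop
  rw [← Scheme.Hom.resLE_eq_morphismRestrict]
  refine ((MorphismProperty.isomorphisms CommRingCat).arrow_mk_iso_iff
    (arrowResLEAppIso q V _ le_rfl)).2 ?_
  rw [← Scheme.Hom.app_eq_appLE]
  exact (ConcreteCategory.isIso_iff_bijective _).2 hq

end Groth.Agent.CurveRes
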