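import Mathlib
import Groth.Agent.CurveRes.BlowSeq

/-!
# Point blow-ups making the image of a finite morphism from a family of regular curves regular
-/

set_option autoImplicit false
set_option linter.style.haveILetI false
set_option linter.unusedSectionVars false
set_option backward.isDefEq.respectTransparency false
set_option backward.isDefEq.respectTransparency.types false
set_option maxHeartbeats 800000

universe u

open CategoryTheory CategoryTheory.Limits AlgebraicGeometry TopologicalSpace IsLocalRing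
open Groth.Agent.H23.StalkIdeal
open Groth.Agent.PointBlow (pt)

noncomputable section

namespace Groth.Agent.CurveRes

theorem eq_of_specializes_of_eq {A B : Scheme.{u}} (t : A ⟶ B) [LocallyQuasiFinite t] {a a' : A} (hs : a ⤳ a')
    (he : t a = t a') : a = a' := by
  haveI := (t.isDiscrete_preimage_singleton (t a')).to_subtype
  have h : (⟨a, he⟩ : t ⁻¹' {t a'}) ⤳ ⟨a', rfl⟩ := subtype_specializes_iff _ _ |>.2 hs
  exact congrArg Subtype.val (specializes_iff_eq.1 h)

/-- The image of a non-closed point of a one-dimensional source is a maximal point. -/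
theorem eq_of_specializes_map {A B : Scheme.{u}} (t : A ⟶ B) [IsFinite t] [Surjective t]
    (h1 : ∀ a b : A, a ⤳ b → a ≠ b → IsClosed ({b} : Set A)) {η : A} (hη : ¬ IsClosed ({η} : Set A)) {w : B}
    (hw : w ⤳ t η) : w = t η := by
  obtain ⟨a, rfl⟩ := t.surjective w
  have h : t η ∈ closure (t '' closure {a}) :=
    closure_mono (show ({t a} : Set B) ⊆ t '' closure {a} from
      Set.singleton_subset_iff.2 ⟨a, subset_closure rfl, rfl⟩) (specializes_iff_mem_closure.1 hw)
  rw [(t.isClosedMap _ isClosed_closure).closure_eq] at h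
  obtain ⟨z, hz, hzt⟩ := h
  by_contra hne
  have hza : z ≠ a := fun h' => hne (h' ▸ hzt)
  have hy : IsClosed ({t η} : Set B) := by
    rw [← hzt, ← Set.image_singleton]
    exact t.isClosedMap _ (h1 a z (specializes_iff_mem_closure.2 hz) hza.symm)
  refine hη (isClosed_of_closure_subset fun v hv => ?_)
  have hs : η ⤳ v := specializes_iff_mem_closure.2 hv
  have h2 : t v ∈ closure ({t η} : Set B) := specializes_iff_mem_closure.1 (hs.map t.continuous)
  rw [hy.closure_eq] at h2
  exact (eq_of_specializes_of_eq t hs (Set.mem_singleton_iff.1 h2).symm).symm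

/-- A reduced point without proper generizations has a field as local ring. -/
theorem isField_stalk_of_maximal {Y : Scheme.{u}} [IsReduced Y] {y : Y} (h : ∀ w : Y, w ⤳ y → w = y) :
    IsField (Y.presheaf.stalk y) := by
  have h0 : Order.coheight y = 0 := Order.coheight_eq_zero.2 fun w hw => by
    rw [h w hw]
  have h1 : ringKrullDim (Y.presheaf.stalk y) ≤ 0 := by
    rw [ringKrullDim_stalk_eq_coheight, h0]
    exact le_rfl
  haveI : Ring.KrullDimLE 0 (Y.presheaf.stalk y) := Ring.krullDimLE_iff.mpr h1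
  exact Ring.KrullDimLE.isField_of_isReduced

/-- A point with a proper generization has a local ring of positive dimension. -/
theorem one_le_dim_stalk {Y : Scheme.{u}} {y w : Y} (hw : w ⤳ y) (hne : w ≠ y) :
    1 ≤ ringKrullDim (Y.presheaf.stalk y) := by
  rw [ringKrullDim_stalk_eq_coheight]
  have hlt : y < w := lt_of_le_not_ge hw fun h => hne (Specializes.antisymm hw h).eq
  exact WithBot.coe_le_coe.2 (Order.one_le_iff_ne_zero.2 fun h0 => by
    rw [Order.coheight_eq_zero] at h0
    exact absurd (h0 hlt.le) hlt.not_ge)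

variable {N X : Scheme.{u}} [IsNoetherian X] (f₀ : N ⟶ X) [IsFinite f₀]
  (hdom : ∀ z : N, IsDomain (N.presheaf.stalk z))
  (h1 : ∀ a b : N, a ⤳ b → a ≠ b → IsClosed ({b} : Set N))
  (h2 : ∀ z : N, IsClosed ({z} : Set N) → ∃ η, η ⤳ z ∧ η ≠ z)
  (hpid : ∀ z : N, IsPrincipalIdealRing (N.presheaf.stalk z))

include hdom h1 h2 hpid in
/-- Finitely many point blow-ups make the image of a family of curves regular with principal maximal ideals. -/
theorem exists_seq_regular_multi : ∃ (X' : Scheme.{u}) (g : X' ⟶ X), Resolve.IsPtBlowupSeq g ∧ IsProper g ∧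
    ∃ f : N ⟶ X', f ≫ g = f₀ ∧ ∀ y : f.image, IsRegularLocalRing (f.image.presheaf.stalk y) ∧
      ∃ γ, maximalIdeal (f.image.presheaf.stalk y) = Ideal.span {γ} := by
  classical
  haveI : IsLocallyNoetherian N := LocallyOfFiniteType.isLocallyNoetherian f₀
  haveI : ∀ z : N, _root_.IsReduced (N.presheaf.stalk z) := fun z => haveI := hdom z; inferInstance
  haveI : IsReduced N := isReduced_of_isReduced_stalk N
  obtain ⟨t₀, ht₀⟩ := isCompact_univ.elim_finite_subcover (fun U : X.affineOpens => (U.1 : Set X))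
    (fun U => U.1.isOpen) fun x _ => by
      obtain ⟨_, ⟨U, hU, rfl⟩, hxU, -⟩ := X.isBasis_affineOpens.exists_subset_of_mem_open (Set.mem_univ x) isOpen_univ
      exact Set.mem_iUnion.2 ⟨⟨U, hU⟩, hxU⟩
  haveI : ∀ i : t₀, IsNoetherian Γ(X, i.1.1) (Sec f₀ i.1.1) := fun i => by
    haveI : IsNoetherianRing Γ(X, i.1.1) := IsLocallyNoetherian.component_noetherian i.1
    haveI : Module.Finite Γ(X, i.1.1) (Sec f₀ i.1.1) := IsFinite.finite_app (f := f₀) i.1.1 i.1.2
    exact isNoetherian_of_isNoetherianRing_of_finite _ _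
  suffices key : ∀ (P : ∀ i : t₀, Submodule Γ(X, i.1.1) (Sec f₀ i.1.1)) (X' : Scheme.{u}) (g : X' ⟶ X),
      Resolve.IsPtBlowupSeq g → IsProper g → ∀ (f : N ⟶ X') (hfg : f ≫ g = f₀),
      (fun i : t₀ => secs f₀ i.1.1 f.toImage (f.imageι ≫ g) (by rw [Scheme.Hom.toImage_imageι_assoc, hfg])) = P →
      ∃ (X' : Scheme.{u}) (g : X' ⟶ X), Resolve.IsPtBlowupSeq g ∧ IsProper g ∧
        ∃ f : N ⟶ X', f ≫ g = f₀ ∧ ∀ y : f.image, IsRegularLocalRing (f.image.presheaf.stalk y) ∧
          ∃ γ, maximalIdeal (f.image.presheaf.stalk y) = Ideal.span {γ} from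
    key _ X (𝟙 X) (Resolve.IsPtBlowupSeq.iso (Iso.refl X)) inferInstance f₀ (Category.comp_id _) rfl
  haveI : WellFoundedGT (∀ i : t₀, Submodule Γ(X, i.1.1) (Sec f₀ i.1.1)) :=
    ⟨InvImage.wf (fun (P : ∀ i : t₀, Submodule Γ(X, i.1.1) (Sec f₀ i.1.1)) (i : t₀) => OrderDual.toDual (P i))
      (Pi.wellFoundedLT (α := fun i : t₀ => (Submodule Γ(X, i.1.1) (Sec f₀ i.1.1))ᵒᵈ)).wf⟩
  intro P
  induction P using WellFoundedGT.induction with
  | ind P ih =>
  intro X' g hg hgP f hfg hP
  haveI := hgP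
  haveI : IsFinite (f ≫ g) := by rw [hfg]; infer_instance
  haveI : IsFinite f := IsFinite.of_comp f g
  haveI : IsLocallyNoetherian X' := LocallyOfFiniteType.isLocallyNoetherian g
  haveI : IsReduced f.image := (S2266.result f).1
  haveI := surjective_toImage f
  haveI : IsFinite (f.toImage ≫ f.imageι ≫ g) := by rw [Scheme.Hom.toImage_imageι_assoc]; infer_instance
  haveI hq : IsFinite (f.imageι ≫ g) := isFinite_of_surjective f.toImage _
  haveI : IsFinite f.toImage := IsFinite.of_comp f.toImage (f.imageι ≫ g)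
  haveI : IsLocallyNoetherian f.image := LocallyOfFiniteType.isLocallyNoetherian (f.imageι ≫ g)
  by_cases hreg : ∀ y : f.image, IsRegularLocalRing (f.image.presheaf.stalk y) ∧
      ∃ γ, maximalIdeal (f.image.presheaf.stalk y) = Ideal.span {γ}
  · exact ⟨X', g, hg, hgP, f, hfg, hreg⟩
  obtain ⟨y, hy⟩ := not_forall.1 hreg
  have hclp : ∀ z, f.toImage z = y → IsClosed ({z} : Set N) := fun z hz => by
    by_contra hη
    have hF := isField_stalk_of_maximal (y := y) fun w hw => hz ▸ eq_of_specializes_map f.toImage h1 hη (hz.symm ▸ hw)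
    letI := hF.toField
    exact hy ⟨inferInstance, 0, by rw [IsLocalRing.maximalIdeal_eq_bot, Ideal.span_singleton_zero]⟩
  have hfp : ∀ z, f z = f.imageι y → f.toImage z = y := fun z hz => f.imageι.isEmbedding.injective (by
    rw [← Scheme.Hom.comp_apply, Scheme.Hom.toImage_imageι]; exact hz)
  obtain ⟨y', hy'⟩ := f.toImage.surjective y
  obtain ⟨η', hη's, hη'ne⟩ := h2 y' (hclp y' hy')
  have hdim1 : 1 ≤ ringKrullDim (f.image.presheaf.stalk y) :=
    one_le_dim_stalk (w := f.toImage η') (hy' ▸ hη's.map f.toImage.continuous) fun he =>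
      hη'ne (eq_of_specializes_of_eq f.toImage hη's (he.trans hy'.symm))
  have hp : IsClosed ({f.imageι y} : Set X') := by
    have e : f y' = f.imageι y := by rw [← hy', ← Scheme.Hom.comp_apply, Scheme.Hom.toImage_imageι]
    rw [← e, ← Set.image_singleton]
    exact f.isClosedMap _ (hclp y' hy')
  obtain ⟨X'', b, hb⟩ := BlowUpLib.exists_blowUp (C := pt hp)
  haveI := PointBlow.isProper_point hp hb
  have hec : BlowUp.IsEffCartierIdeal ((pt hp).comap f) := by
    refine MeroX.isEffCartier_of_stalk _ fun x _ U hxU => ?_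
    haveI := hpid x
    haveI := hdom x
    obtain ⟨γ, hγ⟩ := (IsPrincipalIdealRing.principal (sI ((pt hp).comap f) x)).1
    refine ⟨γ, mem_nonZeroDivisors_of_ne_zero fun h0 => ?_, ((sI_eq _ U hxU).symm.trans hγ)⟩
    rw [h0, Submodule.span_zero_singleton] at hγ
    have hmem : ∀ v, v ⤳ x → f v = f.imageι y := fun v hv => by
      have hs := sI_spec ((pt hp).comap f) hv
      rw [hγ, Ideal.map_bot] at hs
      by_contra hne
      rw [PointBlow.sI_eq_top (by
        rw [Scheme.IdealSheafData.support_comap]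
        exact fun h => hne ((PointBlow.mem_support_pt hp _).1 h))] at hs
      exact top_ne_bot hs
    obtain ⟨η, hηx, hηne⟩ := h2 x (hclp x (hfp x (hmem x (specializes_refl x))))
    exact hηne (eq_of_specializes_of_eq f hηx ((hmem η hηx).trans (hmem x (specializes_refl x)).symm))
  obtain ⟨f', hf', -⟩ := hb.2 N f hec
  have hfg' : f' ≫ b ≫ g = f₀ := by rw [← Category.assoc, hf', hfg]
  haveI : IsFinite (f' ≫ b ≫ g) := by rw [hfg']; infer_instance
  haveI : IsFinite f' := IsFinite.of_comp f' (b ≫ g)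
  haveI : IsReduced f'.image := (S2266.result f').1
  haveI := surjective_toImage f'
  haveI : IsFinite (f'.toImage ≫ f'.imageι ≫ b ≫ g) := by rw [Scheme.Hom.toImage_imageι_assoc]; infer_instance
  haveI hq' : IsFinite (f'.imageι ≫ b ≫ g) := isFinite_of_surjective f'.toImage _
  have hle : f.imageι.ker ≤ (f'.imageι ≫ b).ker := by
    refine le_of_eq ?_
    rw [Scheme.IdealSheafData.ker_subschemeι]
    conv_lhs => rw [← hf', ← Scheme.Hom.toImage_imageι_assoc f' b]
    rw [Scheme.Hom.ker_comp, ker_eq_bot f'.toImage, Scheme.IdealSheafData.map_bot]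
  let k := IsClosedImmersion.lift f.imageι (f'.imageι ≫ b) hle
  have hk : k ≫ f.imageι = f'.imageι ≫ b := IsClosedImmersion.lift_fac _ _ _
  have hkt : f'.toImage ≫ k = f.toImage := by
    rw [← cancel_mono f.imageι, Category.assoc, hk, Scheme.Hom.toImage_imageι_assoc, hf',
      Scheme.Hom.toImage_imageι]
  have hkq : k ≫ f.imageι ≫ g = f'.imageι ≫ b ≫ g := by rw [← Category.assoc, hk, Category.assoc]
  haveI : IsFinite (k ≫ f.imageι ≫ g) := by rw [hkq]; exact hq'
  haveI : IsFinite k := IsFinite.of_comp k (f.imageι ≫ g)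
  let P' : ∀ i : t₀, Submodule Γ(X, i.1.1) (Sec f₀ i.1.1) := fun i =>
    secs f₀ i.1.1 f'.toImage (f'.imageι ≫ b ≫ g) (by rw [Scheme.Hom.toImage_imageι_assoc, hfg'])
  have hle' : P ≤ P' := fun i => by
    rw [← hP]
    exact secs_le f₀ i.1.1 _ _ _ _ k _ _ hkt hkq
  rcases eq_or_lt_of_le hle' with heq | hlt
  swap
  · exact ih P' hlt X'' (b ≫ g) (Resolve.IsPtBlowupSeq.step b g _ hp hb hg) inferInstance f' hfg' rfl
  exfalso
  haveI : IsIso k := by
    refine isIso_of_bijective k (fun i : t₀ => ⟨(f.imageι ≫ g) ⁻¹ᵁ i.1.1, i.1.2.preimage _⟩) ?_ fun i => ?_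
    · refine top_le_iff.1 fun z _ => ?_
      obtain ⟨U, hU, hzU⟩ := Set.mem_iUnion₂.1 (ht₀ (Set.mem_univ ((f.imageι ≫ g) z)))
      exact Opens.mem_iSup.2 ⟨⟨U, hU⟩, hzU⟩
    · exact bijective_app_of_secs_eq f₀ i.1.1 f.toImage (f.imageι ≫ g) _ f'.toImage k _ _ hkt hkq i.1.2
        (ker_eq_bot _) (ker_eq_bot _) ((congrFun hP i).trans (congrFun heq i))
  -- the maximal ideal at `y` becomes principal
  obtain ⟨γ, -, hγ⟩ := exists_gen hb.1 ((inv k ≫ f'.imageι) y)
  have hm : sI ((pt hp).comap f.imageι) y = maximalIdeal (f.image.presheaf.stalk y) := by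
    rw [sI_comap, NormSeq.sI_pt hp]
    refine le_antisymm (map_maximalIdeal_le _) fun a ha => ?_
    obtain ⟨c, rfl⟩ := f.imageι.stalkMap_surjective y a
    exact Ideal.mem_map_of_mem _ ((IsLocalRing.mem_maximalIdeal _).2 fun hu => ha (hu.map _))
  have hs : sI ((pt hp).comap f.imageι) y = Ideal.span {(inv k ≫ f'.imageι).stalkMap y γ} := by
    have e : f.imageι = (inv k ≫ f'.imageι) ≫ b := by rw [Category.assoc, ← hk, IsIso.inv_hom_id_assoc]
    have e2 : (pt hp).comap f.imageι = ((pt hp).comap b).comap (inv k ≫ f'.imageι) := by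
      rw [← Scheme.IdealSheafData.comap_comp]
      exact congrArg (fun j => Scheme.IdealSheafData.comap (pt hp) j) e
    rw [e2, sI_comap, hγ, Ideal.map_span, Set.image_singleton]
  refine hy ⟨IsRegularLocalRing.of_spanFinrank_maximalIdeal_le _ ?_, _, hm.symm.trans hs⟩
  rw [hm.symm.trans hs]
  refine le_trans ?_ hdim1
  exact_mod_cast (Submodule.spanFinrank_span_le_ncard_of_finite (Set.finite_singleton _)).trans (Set.ncard_singleton _).le

end Groth.Agent.CurveRes
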